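import Cfsg.Agent.H417.JThreeDeg
import Cfsg.Agent.H664.Eight.Base

/-!
# `J₃` has at least eight character degrees (helper315, for S4899)

The degrees 323, 324, 816, 1215, 1615, 1920, 2754, by linear programming from the columns of the character table at the
elements of even order (`H417.JThreeLP.Hyp`).
-/

set_option autoImplicit false
set_option maxRecDepth 100000

namespace Cfsg.Agent.H315.Eight.RowJ3

open Cfsg Cfsg.Agent.H417.JThreeLP Cfsg.Agent.H664.Eight

universe u

theorem must {ι : Type*} [Fintype ι] {V : ι → Fin 8 → ℤ} (h : Hyp V) (d : ℤ) (y : List ℤ)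
    (h1 : ((vecs.filter fun l => !(l.getD 0 0 == d)).all fun l => decide (0 ≤ dot y (feat (fn l)))) = true)
    (h2 : dot y tgt < 0) : ∃ χ, V χ 0 = d := by
  by_contra hno
  push Not at hno
  refine leaf h (vecs.filter fun l => !(l.getD 0 0 == d)) ?_ y [] (by simp) ?_ (by simpa [exb] using h2)
  · intro χ
    obtain ⟨l, hl, hv⟩ := h.mem χ
    refine ⟨l, ?_, hv⟩
    rw [List.mem_filter]
    refine ⟨hl, ?_⟩
    have h3 := hno χ
    rw [hv] at h3
    have h4 : fn l 0 = l.getD 0 0 := rfl
    rw [h4] at h3
    rw [Bool.not_eq_true', beq_eq_false_iff_ne]
    exact h3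
  · intro l hl
    have h3 := List.all_eq_true.1 h1 l hl
    rw [decide_eq_true_eq] at h3
    simpa [exv] using h3

section

variable {ι : Type*} [Fintype ι] {V : ι → Fin 8 → ℤ}

theorem deg_323 (h : Hyp V) : ∃ χ, V χ 0 = 323 :=
  must h 323
    [-17665, -2275411193, -11328270995, 74054546, -23162346385, 110735770, 17963887278, 0, -779193162414,
      -4309383530827, -1561069153756, -8577864856416, 1586544109554, 3488068442494, 969542744187, -2030485380614,
      -7756341953495, -7756341953495, 7983179384924, -10185851955314, 4847713720934, 75547276001, -14611876224307,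
      48747076485, 12906075007402, 0, -7756341953495, 17003707407176, -20089466274141, 9695427441869, 259560595538,
      -12563441675846, 0, 22190680021563, -7756341953495, -1482048604201, -7756341953495, 104482350490,
      658177036554885, -39361771930, 83643765350]
    (by decide +kernel) (by decide +kernel)

theorem deg_324 (h : Hyp V) : ∃ χ, V χ 0 = 324 :=
  must h 324
    [1, 219368, -2740131, -3836598, -1640672, -3836598, 5921241, 0, -2740131, -2314011774, -2554557995, 592868898,
      305288432, -2740131, 1043897192, -8707172967, -12924975030, -23315778107, 10377473911, 4494599084, 1045267257,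
      -2946507318, -34699702942, 3110202169, 18134505114, -4174218701, -2740131, 2901978133, -982719491, 6264753215,
      6056709488, -22750699913, -4174218701, 16591100374, -2740131, 0, -2740131, -3422793, 252149719680, 1289473,
      -2740131]
    (by decide +kernel) (by decide +kernel)

theorem deg_816 (h : Hyp V) : ∃ χ, V χ 0 = 816 :=
  must h 816
    [0, -4620, -5500, 19800, -33000, 15400, -2640, 0, -1391494, -9715800, -4247200, -10706640, -561120, -1195896,
      11352075, -13844450, -13621800, -9715800, 43541800, -7069800, 16209975, 6195200, -30781200, 53644800, 54868800,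
      -40550400, 35559000, 47254800, -120476880, 72970350, 48294400, -53010240, -40550400, 32059584, -9715800, 0,
      -9715800, 0, 1173427200, 0, 0]
    (by decide +kernel) (by decide +kernel)

theorem deg_1215 (h : Hyp V) : ∃ χ, V χ 0 = 1215 :=
  must h 1215
    [0, -13974, -69866, 85612, -311574, -85789, -60057, 0, -311574, -311574, 4012165, -12218171, -7230198, 22299885,
      35456105, 6245514, 3705411, -311574, -19630603, -19811887, 35611892, -47929060, 90290573, -14058451, -15494122,
      -141668634, -311574, 96921413, 94704325, 212892418, 62202987, -22928773, -141668634, -311574, -311574, -311574,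
      -311574, 827046, -311574, -311574, 662095]
    (by decide +kernel) (by decide +kernel)

theorem deg_1615 (h : Hyp V) : ∃ χ, V χ 0 = 1615 :=
  must h 1615
    [0, -150, -150, 600, -900, 600, 0, 0, -2549729, -25344000, -13013060, -25344000, 13003860, -9980156, 4003200,
      -62978575, -63927900, -122963700, 65721500, -49816300, 16675200, 192000, -125895800, 2278400, 104157280,
      -3340800, 5806100, 135015800, -304360600, 36691200, 1216000, -102237280, -3340800, 242150304, -25344000, 0,
      -25344000, 0, 3028595200, 0, 0]
    (by decide +kernel) (by decide +kernel)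

theorem deg_1920 (h : Hyp V) : ∃ χ, V χ 0 = 1920 :=
  must h 1920
    [0, 17910, 184350, 122400, 218700, 67200, 346320, 0, -956662427, -9561600000, -8564974730, -2068611180,
      8570614890, -3786462468, 1370572800, -23852555725, -42600114450, -9561600000, 43075644050, -18796340100,
      6151372800, 97177600, -84691640100, 334233600, 68887740240, -701491200, 75867448500, 86927710500,
      -173799288360, 13004236800, 307712000, -68264247120, -701491200, 92291189472, -9561600000, 0, -9561600000, 0,
      844186528800, -1410048000, 0]
    (by decide +kernel) (by decide +kernel)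

theorem deg_2754 (h : Hyp V) : ∃ χ, V χ 0 = 2754 :=
  must h 2754
    [-8, 39534, 207106, 461745, -589212, -465727, -1276305, 0, -1276305, -1276305, -11706510, -48306528, 3028093,
      189730187, 228733092, 36644917, -73241159, -1276305, 35755766, 22646723, 229371244, -380717636, 499635684,
      -54421203, 120398397, -914294215, -1276305, 1051436829, 1105063449, 1373036704, 417232645, -204418041,
      -914294215, -1276305, -1276305, -1276305, -1276305, 49927750, -1276305, -1276305, 39969861]
    (by decide +kernel) (by decide +kernel)

end

theorem eight_j3 {S : Type u} [Group S] (h : Spor.IsoJ3 S) : Eight S := by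
  classical
  have hfin : Finite S := Nat.finite_of_card_ne_zero (by rw [(H898.J3Cent.base h).2.1]; norm_num)
  have := Cfsg.Agent.Characters.Core.finite_irr (G := S)
  have := Fintype.ofFinite (IrrCharacter S)
  obtain ⟨V, hV, H⟩ := H417.JThreeDeg.hyp h
  have key : ∀ m : ℕ, (∃ χ, V χ 0 = (m : ℤ)) → m ∈ charDegrees S := by
    rintro m ⟨χ, hχ⟩
    refine ⟨χ, ?_⟩
    rw [hV χ] at hχ
    exact_mod_cast hχ
  refine eight_of_list [1, 323, 324, 816, 1215, 1615, 1920, 2754] (by decide) (by decide) ?_
  intro d hd
  simp only [List.mem_cons, List.not_mem_nil, or_false] at hd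
  rcases hd with rfl | rfl | rfl | rfl | rfl | rfl | rfl | rfl
  · exact one_mem
  · exact key 323 (deg_323 H)
  · exact key 324 (deg_324 H)
  · exact key 816 (deg_816 H)
  · exact key 1215 (deg_1215 H)
  · exact key 1615 (deg_1615 H)
  · exact key 1920 (deg_1920 H)
  · exact key 2754 (deg_2754 H)

end Cfsg.Agent.H315.Eight.RowJ3
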