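import Cfsg.Agent.H471.Eight.CertHS
import Cfsg.Agent.H334.DS.DegsLeech
import Cfsg.Agent.H678.DG.HSDeg
import Cfsg.Agent.H852.PSq.HS
import Cfsg.Agent.H904.HSIso

/-!
# `HS` has at least eight character degrees (helper315, for S4899)

Degrees 22, 77 (helper713, helper334), 693 (helper852), 770, 1056 (helper678), centralizers of the elements of order 7
and 11 (helper904), and two certificates for helper471's table.
-/

set_option autoImplicit false
set_option maxRecDepth 100000

namespace Cfsg.Agent.H315.Eight.RowHS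

open Cfsg Subgroup Cfsg.Agent.Characters.Core Cfsg.Agent.H664.Eight Cfsg.Agent.H334.DS
open Cfsg.Agent.H653.Sys Cfsg.Agent.H653.Sieve Cfsg.Agent.H471.Eight Cfsg.Agent.H471.Eight.CertHS
open Cfsg.Agent.Blocks.Basic (irr_one_eq_charDegree)

universe u

def Cs' : List Cond := [condEq 22, condEq 77, condEq 693, condEq 770, condEq 1056]

section

variable {S : Type u} [Group S] [Finite S] [Fintype (IrrCharacter S)]

theorem tab' [IsSimpleGroup S] (hN : Nat.card S = 44352000) (hx : ∀ D ∈ Ds, D.Cent S) (hC : ∀ c ∈ Cs', c.Holds S) :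
    Tab S (fun g : S => orderOf g) 44352000 CertHS.L (Ds.map PD.fam) Cs' B.flatten :=
  Tab.of_primes hN (by norm_num) (by decide +kernel) (by decide +kernel) rfl (by decide +kernel) hx hB hC

variable {lab : S → ℕ}

def P1 : List ℕ := [330, 512, 792, 1100, 1408, 2304, 2640, 3200, 4950, 6000, 6336]

theorem must_1' (C : Tab S lab 44352000 CertHS.L (Ds.map PD.fam) Cs' B.flatten) : ∃ d ∈ P1, d ∈ charDegrees S :=
  Tab.must C _ 0
    [⟨0, 0, 77, [28]⟩, ⟨-1, 176, 0, []⟩]
    [-154, 0, 0, 0, -1232] (by decide +kernel)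

def P2 : List ℕ := [6, 21, 56, 120, 160, 175, 210, 225, 672, 1750, 2520, 4500, 5600]

theorem must_2' (C : Tab S lab 44352000 CertHS.L (Ds.map PD.fam) Cs' B.flatten) : ∃ d ∈ P2, d ∈ charDegrees S :=
  Tab.must C _ 1
    [⟨-6832, -876708, 12166308, [27434484]⟩, ⟨1265, 363000, 0, []⟩]
    [-391314, -5929, -480249, -592900, -142296] (by decide +kernel)

end

/-- **Eight degrees**; `hx` : elements of prime order and their centralizers; `hK` : known degrees. -/
theorem eight {S : Type u} [Group S] [Finite S] [IsSimpleGroup S] (hN : Nat.card S = 44352000)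
    (hx : ∀ pk ∈ ([(11, 1), (7, 1)] : List (ℕ × ℕ)), ∃ x : S, orderOf x = pk.1 ∧
      Nat.card (Subgroup.centralizer ({x} : Set S)) = pk.1 * pk.2)
    (hK : ∀ d ∈ ([22, 77, 693, 770, 1056] : List ℕ), d ∈ charDegrees S) :
    Eight S := by
  classical
  have := finite_irr (G := S)
  let _ := Fintype.ofFinite (IrrCharacter S)
  have T := tab' (S := S) hN (by
    intro D hD
    simp only [Ds, List.mem_cons, List.not_mem_nil, or_false] at hD
    rcases hD with rfl | rfl
    · exact hx (11, 1) (by simp)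
    · exact hx (7, 1) (by simp)) (by
    intro c hc
    simp only [Cs', List.mem_cons, List.not_mem_nil, or_false] at hc
    rcases hc with rfl | rfl | rfl | rfl | rfl
    · exact condEq_holds (hK 22 (by simp))
    · exact condEq_holds (hK 77 (by simp))
    · exact condEq_holds (hK 693 (by simp))
    · exact condEq_holds (hK 770 (by simp))
    · exact condEq_holds (hK 1056 (by simp)))
  refine eight_of_pack [22, 77, 693, 770, 1056] hK [(1, P1), (1, P2)] ?_ 1 (by decide +kernel)
  intro q hq
  simp only [List.mem_cons, List.not_mem_nil, or_false] at hq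
  rcases hq with rfl | rfl
  · exact must_1' T
  · exact must_2' T

theorem mem_of_hasDeg {G : Type*} [Group G] [Finite G] {m : ℕ} (h : HasDeg G m) : m ∈ charDegrees G := by
  obtain ⟨χ, h1, h2⟩ := h
  refine ⟨⟨χ, h1⟩, ?_⟩
  have h3 := irr_one_eq_charDegree h1
  rw [h2] at h3
  exact_mod_cast h3.symm

theorem eight_hs' : Eight HN.HS100.Q := by
  obtain ⟨⟨f⟩, hs⟩ := HN.AutHS.nonempty_Q
  have h : Spor.IsoHS HN.HS100.Q := ⟨f⟩
  have hcard : Nat.card HN.HS100.Q = 44352000 := HN.AutBound.card_Q
  have hfin : Finite HN.HS100.Q := Nat.finite_of_card_ne_zero (by rw [hcard]; norm_num)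
  refine eight hcard ?_ ?_
  · intro pk hpk
    simp only [List.mem_cons, List.not_mem_nil, or_false] at hpk
    rcases hpk with rfl | rfl
    · have : Fact (Nat.Prime 11) := ⟨by norm_num⟩
      obtain ⟨x, hx⟩ := exists_prime_orderOf_dvd_card' (G := HN.HS100.Q) 11 (by rw [hcard]; norm_num)
      exact ⟨x, hx, (H904.HSIso.card_eleven h hx).trans (by norm_num)⟩
    · have : Fact (Nat.Prime 7) := ⟨by norm_num⟩
      obtain ⟨x, hx⟩ := exists_prime_orderOf_dvd_card' (G := HN.HS100.Q) 7 (by rw [hcard]; norm_num)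
      exact ⟨x, hx, (H904.HSIso.card_seven h hx).trans (by norm_num)⟩
  · intro d hd
    simp only [List.mem_cons, List.not_mem_nil, or_false] at hd
    rcases hd with rfl | rfl | rfl | rfl | rfl
    · exact mem_of_hasDeg (H334.DS.hs h).1
    · exact mem_of_hasDeg (H334.DS.hs h).2
    · exact H852.PSq.HS.deg_693
    · exact H678.DG.HSDeg.deg_770
    · exact H678.DG.HSDeg.deg_1056

/-- **`HS`.** -/
theorem eight_hs {S : Type u} [Group S] (h : Spor.IsoHS S) : Eight S := by
  obtain ⟨e⟩ := h
  obtain ⟨⟨f⟩, -⟩ := HN.AutHS.nonempty_Q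
  exact eight_hs'.of_equiv (e.trans f.symm)

end Cfsg.Agent.H315.Eight.RowHS
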