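import Cfsg.Agent.H471.Eight.CertMcL
import Cfsg.Agent.H334.DS.DegsLeech
import Cfsg.Agent.H678.DG.McLDeg
import Cfsg.Agent.H904.McLCent
import Cfsg.Agent.H848.McLLocal

/-!
# `McL` has at least eight character degrees (helper315, for S4899)

Degrees 22, 252 (helper713, helper334), 3520, 4500, 5103 (helper678), centralizers of the elements of order 7 and 11
(helper848, helper904), certificate of helper471.
-/

set_option autoImplicit false

namespace Cfsg.Agent.H315.Eight.RowMcL

open Cfsg Subgroup Cfsg.Agent.Characters.Core Cfsg.Agent.H664.Eight Cfsg.Agent.H334.DS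
open Cfsg.Agent.Blocks.Basic (irr_one_eq_charDegree)

universe u

theorem mem_of_hasDeg {G : Type*} [Group G] [Finite G] {m : ℕ} (h : HasDeg G m) : m ∈ charDegrees G := by
  obtain ⟨χ, h1, h2⟩ := h
  refine ⟨⟨χ, h1⟩, ?_⟩
  have h3 := irr_one_eq_charDegree h1
  rw [h2] at h3
  exact_mod_cast h3.symm

open Cfsg.Agent.H904.McLCent Cfsg.Agent.McLType.X275 Cfsg.Agent.McLType.Gens in
theorem eight_mcl' : Eight Spor.McL := by
  have h : Spor.IsoMcL Spor.McL := ⟨MulEquiv.refl _⟩
  obtain ⟨hfin, hs, -⟩ := H848.McLLocal.facts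
  have hcard := H904.McLCent.card_L h
  obtain ⟨θ, R⟩ := exists_rep h
  let f : Spor.McL ≃* K0 := (MonoidHom.ofInjective R.inj).trans (MulEquiv.subgroupCongr R.range)
  refine H471.Eight.CertMcL.eight hcard ?_ ?_
  · intro pk hpk
    simp only [List.mem_cons, List.not_mem_nil, or_false] at hpk
    rcases hpk with rfl | rfl
    · have : Fact (Nat.Prime 11) := ⟨by norm_num⟩
      obtain ⟨x, hx⟩ := exists_prime_orderOf_dvd_card' (G := Spor.McL) 11 (by rw [hcard]; norm_num)
      refine ⟨x, hx, ?_⟩
      have h1 := (H904.McLCent.eleven h (zpowers x) (by rw [Nat.card_zpowers, hx])).1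
      rw [show (zpowers x : Subgroup Spor.McL) = Subgroup.closure {x} from zpowers_eq_closure x,
        centralizer_closure] at h1
      exact h1
    · exact H848.McLLocal.mcl_seven
  · intro d hd
    simp only [List.mem_cons, List.not_mem_nil, or_false] at hd
    rcases hd with rfl | rfl | rfl | rfl | rfl
    · exact mem_of_hasDeg (H334.DS.mcl h).1
    · exact mem_of_hasDeg (H334.DS.mcl h).2
    · exact charDegrees_subset f H678.DG.McLDeg.deg_3520
    · exact charDegrees_subset f H678.DG.McLDeg.deg_4500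
    · exact charDegrees_subset f H678.DG.McLDeg.deg_5103

/-- **`McL`.** -/
theorem eight_mcl {S : Type u} [Group S] (h : Spor.IsoMcL S) : Eight S := by
  obtain ⟨e⟩ := h
  exact eight_mcl'.of_equiv e

end Cfsg.Agent.H315.Eight.RowMcL
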